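import Groth.Agent.Lib.CMSlice4.Alg
import Groth.Agent.Lib.CI2.NhdIff
import Groth.Agent.Lib.FlatH4.FlatLocusScheme
import Groth.Agent.Lib.FlatH4.FlatLocal
import Groth.Agent.Lib.Goren15.Scheme
import Groth.Agent.Lib.SMT.CMBasic
import Groth.Prelude.Def_MoreMor
import Groth.Prelude.Def_Mor2
import Mathlib

/-!
# Quasi-finite flat slices at Cohen–Macaulay points
-/

set_option autoImplicit false
set_option linter.style.haveILetI false
universe u

open CategoryTheory CategoryTheory.Limits AlgebraicGeometry RingTheory.Sequence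

namespace Groth.Agent.CMSlice4

theorem flat_away_of_forall {R C : Type u} [CommRing R] [CommRing C] [Algebra R C] (h : C)
    (H : ∀ P : PrimeSpectrum C, h ∉ P.asIdeal → Module.Flat R (LocalizedModule P.asIdeal.primeCompl C)) :
    Module.Flat R (Localization.Away h) := by
  refine FlatH4.flat_of_localized_maximal_algebra (S := Localization.Away h) fun m _ => ?_
  have hP : h ∉ m.comap (algebraMap C (Localization.Away h)) := fun hm =>
    Ideal.IsPrime.ne_top inferInstance (Ideal.eq_top_of_isUnit_mem _ (Ideal.mem_comap.1 hm) (IsLocalization.Away.algebraMap_isUnit h))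
  obtain ⟨e⟩ := CI2.nonempty_atPrime_localization (k := R) (A := C) (T := Localization.Away h) (Submonoid.powers h) m
  haveI := (FlatH4.flat_localization_iff _).1 (H ⟨m.comap (algebraMap C (Localization.Away h)), inferInstance⟩ hP)
  exact (FlatH4.flat_localization_iff m).2 (Module.Flat.of_linearEquiv e.symm.toLinearEquiv)

/-- The maximal ideal of the base generates the extension of the prime below. -/
theorem map_maximalIdeal_stalkMap {X S : Scheme.{u}} (f : X ⟶ S) {W : S.Opens} (hW : IsAffineOpen W) {U : X.Opens}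
    (hU : IsAffineOpen U) (hUW : U ≤ f ⁻¹ᵁ W) {x : X} (hx : x ∈ U) :
    Ideal.map (f.stalkMap x).hom (IsLocalRing.maximalIdeal (S.presheaf.stalk (f x))) =
      (((hU.primeIdealOf ⟨x, hx⟩).asIdeal.comap (f.appLE W U hUW).hom).map (f.appLE W U hUW).hom).map
        (X.presheaf.germ U x hx).hom := by
  letI := S.presheaf.algebra_section_stalk (U := W) ⟨f x, hUW hx⟩
  haveI : IsLocalization.AtPrime (S.presheaf.stalk (f x)) (hW.primeIdealOf ⟨f x, hUW hx⟩).asIdeal :=
    hW.isLocalization_stalk ⟨f x, hUW hx⟩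
  rw [← IsLocalization.AtPrime.map_eq_maximalIdeal (hW.primeIdealOf ⟨f x, hUW hx⟩).asIdeal (S.presheaf.stalk (f x)),
    ← IsAffineOpen.comap_primeIdealOf_appLE W hW U hU hUW hx, Ideal.map_map, Ideal.map_map]
  refine congrArg₂ Ideal.map (RingHom.ext fun r => ?_) rfl
  show f.stalkMap x (S.presheaf.germ W (f x) (hUW hx) r) = X.presheaf.germ U x hx (f.appLE W U hUW r)
  erw [Scheme.Hom.germ_stalkMap_apply]
  exact (X.presheaf.germ_res_apply (homOfLE hUW) x hx _).symm

set_option maxHeartbeats 800000 in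
/-- Near a closed Cohen–Macaulay point of a fibre there is a slice which is flat and quasi-finite. -/
theorem exists_slice {X S : Scheme.{u}} (f : X ⟶ S) [LocallyOfFinitePresentation f] (x : X)
    (hcm : MoreMor.IsCMAt f x) (hcl : IsClosed ({f.asFiber x} : Set ↑(f.fiber (f x)))) :
    ∃ (V : X.Opens) (Z : Scheme.{u}) (i : Z ⟶ (V : Scheme.{u})), IsAffine Z ∧ IsAffineOpen V ∧
      Mor2.IsRegularClosedImmersion i ∧
      x ∈ Set.range ⇑(i ≫ V.ι) ∧
      Flat (i ≫ V.ι ≫ f) ∧ LocallyOfFinitePresentation (i ≫ V.ι ≫ f) ∧ LocallyQuasiFinite (i ≫ V.ι ≫ f) ∧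
      ∀ z : Z, f (V.ι (i z)) = f x → V.ι (i z) = x := by
  classical
  obtain ⟨W, hW, hxW, -⟩ := exists_isAffineOpen_mem_and_subset (X := S) (x := f x) (U := ⊤) trivial
  let O : X.Opens := ⟨{y | (f.stalkMap y).hom.Flat}, FlatH4.isOpen_flatLocus f⟩
  obtain ⟨U, hU, hxU, hUle⟩ := exists_isAffineOpen_mem_and_subset (X := X) (x := x) (U := f ⁻¹ᵁ W ⊓ O) ⟨hxW, hcm.1⟩
  have hUW : U ≤ f ⁻¹ᵁ W := fun y hy => (hUle hy).1
  let R := Γ(S, W)
  let A := Γ(X, U)
  letI : Algebra R A := (f.appLE W U hUW).hom.toAlgebra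
  haveI : Algebra.FinitePresentation R A := f.finitePresentation_appLE hW hU hUW
  have hprime : ∀ P : PrimeSpectrum A, ∀ hy : hU.fromSpec P ∈ U, hU.primeIdealOf ⟨hU.fromSpec P, hy⟩ = P := fun P hy =>
    hU.fromSpec.isOpenEmbedding.injective (hU.fromSpec_primeIdealOf ⟨_, hy⟩)
  have hmemU : ∀ P : PrimeSpectrum A, hU.fromSpec P ∈ U := fun P => hU.range_fromSpec.le ⟨P, rfl⟩
  haveI : Module.Flat R A := FlatH4.flat_of_localized_maximal_algebra (S := A) fun P _ => by
    have h := (FlatH4.flat_stalkMap_iff f W hW U hU hUW (hmemU ⟨P, inferInstance⟩)).1 (hUle (hmemU _)).2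
    rwa [hprime] at h
  let q := (hU.primeIdealOf ⟨x, hxU⟩).asIdeal
  letI := X.presheaf.algebra_section_stalk (U := U) ⟨x, hxU⟩
  haveI : IsLocalization.AtPrime (X.presheaf.stalk x) q := hU.isLocalization_stalk ⟨x, hxU⟩
  have hcm' : LocCoh.IsCohenMacaulayLocalRing (X.presheaf.stalk x ⧸
      ((q.comap (algebraMap R A)).map (algebraMap R A)).map (algebraMap A (X.presheaf.stalk x))) := by
    obtain ⟨e⟩ := Goren15.nonempty_asFiberEquiv f x
    exact SMT.isCM_of_ringEquiv (e.symm.trans (Ideal.quotEquivOfEq (map_maximalIdeal_stalkMap f hW hU hUW hxU))) hcm.2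
  obtain ⟨fs, hfsq, ⟨g₀, hg₀, hwr⟩, hflat, hmin⟩ := exists_slice_data q (X.presheaf.stalk x) hcm'
  let I := Ideal.ofList fs
  let C := A ⧸ I
  let mk : A →+* C := Ideal.Quotient.mk I
  haveI : Algebra.FinitePresentation R C := Algebra.FinitePresentation.quotient
    ⟨fs.toFinset, by rw [List.coe_toFinset]⟩
  let qC : Ideal C := q.map mk
  haveI : qC.IsPrime := Ideal.map_isPrime_of_surjective Ideal.Quotient.mk_surjective (by rwa [Ideal.mk_ker])
  have hqC : qC.comap mk = q := by
    rw [Ideal.comap_map_of_surjective mk Ideal.Quotient.mk_surjective, ← RingHom.ker_eq_comap_bot, Ideal.mk_ker,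
      sup_eq_left.mpr hfsq]
  have hmem : ∀ a, mk a ∈ qC ↔ a ∈ q := fun a => by rw [← Ideal.mem_comap, hqC]
  let zC : PrimeSpectrum C := ⟨qC, inferInstance⟩
  -- flatness
  have hflatq : Module.Flat R (LocalizedModule qC.primeCompl C) := (FlatH4.flat_localized_iff qC).mpr fun J y hy => by
    obtain ⟨s, hs, hsy⟩ := hflat J y hy
    exact ⟨mk s, fun h => hs ((hmem s).1 h), by rwa [show mk s = algebraMap A C s from rfl, algebraMap_smul]⟩
  obtain ⟨_, ⟨h₁, rfl⟩, hh₁, hh₁flat⟩ := PrimeSpectrum.isTopologicalBasis_basic_opens.isOpen_iff.1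
    (FlatH4.isOpen_flat_localized (R := R) (S := C) (M := C)) zC hflatq
  obtain ⟨h₁, rfl⟩ := Ideal.Quotient.mk_surjective h₁
  -- isolation
  have hspec : ∀ P : PrimeSpectrum A, hW.fromSpec (P.comap (algebraMap R A)) = f (hU.fromSpec P) := fun P => by
    show (Spec.map (f.appLE W U hUW) ≫ hW.fromSpec) P = (hU.fromSpec ≫ f) P
    rw [IsAffineOpen.SpecMap_appLE_fromSpec f hW hU hUW]
  have hqx : hU.fromSpec ⟨q, inferInstance⟩ = x := hU.fromSpec_primeIdealOf ⟨x, hxU⟩
  obtain ⟨s₀, hs₀, hiso⟩ := exists_isolating (R := R) zC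
    (fun y hy hle => by
      have h1 : (y.asIdeal.comap mk).comap (algebraMap R A) = q.comap (algebraMap R A) := by
        have := congrArg PrimeSpectrum.asIdeal hy
        rw [PrimeSpectrum.comap_asIdeal, PrimeSpectrum.comap_asIdeal,
          IsScalarTower.algebraMap_eq R A C, ← Ideal.comap_comap, ← Ideal.comap_comap] at this
        rwa [show (Ideal.comap (algebraMap A C) zC.asIdeal) = q from hqC] at this
      have h2 := hmin (y.asIdeal.comap mk) inferInstance (fun a ha => by
          rw [Ideal.mem_comap, Ideal.Quotient.eq_zero_iff_mem.2 ha]; exact zero_mem _)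
        (hqC ▸ Ideal.comap_mono hle) (h1 ▸ Ideal.map_comap_le)
      refine PrimeSpectrum.ext ?_
      rw [← Ideal.map_comap_of_surjective mk Ideal.Quotient.mk_surjective y.asIdeal, h2])
    (fun y hy hle => by
      have h1 : hU.fromSpec (y.comap mk) = x := by
        refine (FtPts3.isClosed_asFiber_iff f x).1 hcl _ ?_ ?_
        · rw [← hspec, ← hqx, ← hspec]
          refine congrArg hW.fromSpec ?_
          rw [← PrimeSpectrum.comap_comp_apply]
          refine hy.trans (PrimeSpectrum.ext ?_)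
          rw [PrimeSpectrum.comap_asIdeal, PrimeSpectrum.comap_asIdeal, IsScalarTower.algebraMap_eq R A C,
            ← Ideal.comap_comap]
          exact congrArg (Ideal.comap (algebraMap R A)) hqC
        · rw [← hqx]
          refine hU.fromSpec.isEmbedding.isInducing.specializes_iff.2 ((PrimeSpectrum.le_iff_specializes _ _).1 ?_)
          show q ≤ y.asIdeal.comap mk
          exact hqC ▸ Ideal.comap_mono hle
      have h2 := hU.fromSpec.isOpenEmbedding.injective (h1.trans hqx.symm)
      refine PrimeSpectrum.ext ?_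
      have h3 : y.asIdeal.comap mk = q := congrArg PrimeSpectrum.asIdeal h2
      rw [← Ideal.map_comap_of_surjective mk Ideal.Quotient.mk_surjective y.asIdeal, h3])
  obtain ⟨s₀, rfl⟩ := Ideal.Quotient.mk_surjective s₀
  -- quasi-finiteness
  let g₁ := g₀ * (h₁ * s₀)
  have hg₁ : g₁ ∉ q := fun h => (Ideal.IsPrime.mem_or_mem inferInstance h).elim hg₀ fun h =>
    (Ideal.IsPrime.mem_or_mem inferInstance h).elim (fun h => hh₁ ((hmem _).2 h)) (fun h => hs₀ ((hmem _).2 h))
  let C₁ := Localization.Away (mk g₁)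
  let π₁ : Spec (CommRingCat.of C₁) ⟶ Spec R := Spec.map (CommRingCat.ofHom (algebraMap R C₁))
  haveI : Algebra.FinitePresentation R C₁ := by
    haveI : Algebra.FinitePresentation C C₁ := IsLocalization.Away.finitePresentation (mk g₁)
    exact Algebra.FinitePresentation.trans R C C₁
  haveI : LocallyOfFinitePresentation π₁ := (HasRingHomProperty.Spec_iff (P := @LocallyOfFinitePresentation)).2
    (RingHom.finitePresentation_algebraMap.2 inferInstance)
  have hzC : zC ∈ Set.range (PrimeSpectrum.comap (algebraMap C C₁)) := by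
    rw [PrimeSpectrum.localization_away_comap_range C₁ (mk g₁)]
    exact fun h => hg₁ ((hmem _).1 h)
  obtain ⟨z₁, hz₁⟩ := hzC
  have hfib : ∀ w : PrimeSpectrum C₁, π₁ w = π₁ z₁ → w = z₁ := by
    intro w hw
    refine PrimeSpectrum.localization_comap_injective C₁ (Submonoid.powers (mk g₁)) ?_
    rw [hz₁]
    refine hiso _ ?_ ?_
    · rw [← hz₁, ← PrimeSpectrum.comap_comp_apply, ← PrimeSpectrum.comap_comp_apply, ← IsScalarTower.algebraMap_eq]
      exact hw
    · intro hm
      have : mk g₁ ∈ (PrimeSpectrum.comap (algebraMap C C₁) w).asIdeal :=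
        Ideal.mem_of_dvd _ (map_dvd mk ((dvd_mul_left s₀ h₁).trans (dvd_mul_left _ g₀))) hm
      exact w.2.ne_top (Ideal.eq_top_of_isUnit_mem _ this (IsLocalization.Away.algebraMap_isUnit (mk g₁)))
  have hqf : π₁.QuasiFiniteAt z₁ := by
    refine (Scheme.Hom.quasiFiniteAt_iff_isOpen_singleton_asFiber).2 ?_
    haveI : Subsingleton (π₁.fiber (π₁ z₁)) := ⟨fun a b => by
      have h : ∀ c, π₁.fiberι (π₁ z₁) c = z₁ := fun c => by
        refine hfib _ ?_
        have hc : π₁.fiberι (π₁ z₁) c ∈ Set.range (π₁.fiberι (π₁ z₁)) := ⟨c, rfl⟩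
        rw [π₁.range_fiberι] at hc
        exact hc
      exact (π₁.fiberι (π₁ z₁)).isEmbedding.injective ((h a).trans (h b).symm)⟩
    exact isOpen_discrete _
  obtain ⟨_, ⟨c, rfl⟩, hzc, hcqf⟩ := PrimeSpectrum.isTopologicalBasis_basic_opens.isOpen_iff.1
    π₁.isOpen_quasiFiniteAt z₁ hqf
  obtain ⟨c₀, e, rfl⟩ := IsLocalization.exists_mk'_eq (Submonoid.powers (mk g₁)) c
  obtain ⟨c₀, rfl⟩ := Ideal.Quotient.mk_surjective c₀
  have hc₀ : c₀ ∉ q := fun h => hzc (IsLocalization.mk'_mem_iff.2 (by
    have : mk c₀ ∈ (PrimeSpectrum.comap (algebraMap C C₁) z₁).asIdeal := by rw [hz₁]; exact (hmem _).2 h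
    exact this))
  -- the slice
  let G := g₁ * c₀
  have hG : G ∉ q := fun h => (Ideal.IsPrime.mem_or_mem inferInstance h).elim hg₁ hc₀
  let V := X.basicOpen G
  have hV : IsAffineOpen V := hU.basicOpen G
  have hVU : V ≤ U := X.basicOpen_le G
  let B := Γ(X, V)
  letI : Algebra A B := (X.presheaf.map (homOfLE hVU).op).hom.toAlgebra
  haveI : IsLocalization.Away G B := hU.isLocalization_basicOpen G
  let C₂ := Localization.Away (algebraMap C C₁ (mk c₀))
  haveI hC₂ : IsLocalization.Away (mk G) C₂ := by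
    rw [map_mul]; exact IsLocalization.Away.mul' C₁ C₂ (mk g₁) (mk c₀)
  have hmap : (Submonoid.powers G).map mk = Submonoid.powers (mk G) := Submonoid.map_powers _ _
  haveI : IsLocalization ((Submonoid.powers G).map mk) C₂ := by rw [hmap]; infer_instance
  let σ : B →+* C₂ := IsLocalization.Away.map B C₂ mk G
  have hσs : Function.Surjective σ := IsLocalization.map_surjective_of_surjective (M := Submonoid.powers G)
    (g := mk) (S := B) (Q := C₂) Ideal.Quotient.mk_surjective
  have hσk : RingHom.ker σ = I.map (algebraMap A B) :=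
    (IsLocalization.ker_map (S := B) C₂ mk hmap).trans (by rw [Ideal.mk_ker])
  have hσA : ∀ a, σ (algebraMap A B a) = algebraMap C C₂ (mk a) := fun a => IsLocalization.map_eq (S := B) (Q := C₂) _ a
  haveI : IsClosedImmersion (Spec.map (CommRingCat.ofHom σ)) := IsClosedImmersion.spec_of_surjective _ hσs
  let i : Spec (CommRingCat.of C₂) ⟶ V.toScheme := Spec.map (CommRingCat.ofHom σ) ≫ hV.isoSpec.inv
  let π₂ : Spec (CommRingCat.of C₂) ⟶ Spec R := Spec.map (CommRingCat.ofHom (algebraMap R C₂))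
  have hiV : i ≫ V.ι = Spec.map (CommRingCat.ofHom ((algebraMap C C₂).comp mk)) ≫ hU.fromSpec := by
    show (Spec.map (CommRingCat.ofHom σ) ≫ hV.isoSpec.inv) ≫ V.ι = _
    rw [Category.assoc, hV.isoSpec_inv_ι, ← hU.map_fromSpec hV (homOfLE hVU).op, ← Category.assoc, ← Spec.map_comp]
    congr 2
    exact CommRingCat.hom_ext (RingHom.ext hσA)
  have hiVf : i ≫ V.ι ≫ f = π₂ ≫ hW.fromSpec := by
    rw [← Category.assoc, hiV, Category.assoc, ← IsAffineOpen.SpecMap_appLE_fromSpec f hW hU hUW, ← Category.assoc,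
      ← Spec.map_comp]
    congr 2
  haveI : Algebra.FinitePresentation R C₂ := by
    haveI : Algebra.FinitePresentation C C₂ := IsLocalization.Away.finitePresentation (mk G)
    exact Algebra.FinitePresentation.trans R C C₂
  haveI : Module.Flat R C₂ := by
    haveI := flat_away_of_forall (R := R) (mk G) fun P hP => hh₁flat fun h => hP (Ideal.mem_of_dvd _
      (map_dvd mk (((dvd_mul_right h₁ s₀).trans (dvd_mul_left _ g₀)).trans (dvd_mul_right g₁ c₀))) h)
    exact Module.Flat.of_linearEquiv ((IsLocalization.algEquiv (Submonoid.powers (mk G)) C₂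
      (Localization.Away (mk G))).restrictScalars R).toLinearEquiv
  haveI : Flat π₂ := (HasRingHomProperty.Spec_iff (P := @Flat)).2 (RingHom.flat_algebraMap_iff.2 inferInstance)
  haveI : LocallyOfFinitePresentation π₂ := (HasRingHomProperty.Spec_iff (P := @LocallyOfFinitePresentation)).2
    (RingHom.finitePresentation_algebraMap.2 inferInstance)
  let j : C₁ →+* C₂ := algebraMap C₁ C₂
  haveI : IsOpenImmersion (Spec.map (CommRingCat.ofHom j)) :=
    IsOpenImmersion.of_isLocalization (algebraMap C C₁ (mk c₀))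
  have hπ : π₂ = Spec.map (CommRingCat.ofHom j) ≫ π₁ := by
    rw [← Spec.map_comp]
    refine congrArg Spec.map (CommRingCat.hom_ext (RingHom.ext fun r => ?_))
    show algebraMap R C₂ r = j (algebraMap R C₁ r)
    exact IsScalarTower.algebraMap_apply R C₁ C₂ r
  haveI : LocallyQuasiFinite π₂ := by
    rw [← Scheme.Hom.quasiFiniteLocus_eq_top_iff, eq_top_iff]
    intro t _
    show π₂.QuasiFiniteAt t
    rw [hπ, Scheme.Hom.quasiFiniteAt_comp_iff_of_isOpenImmersion]
    refine hcqf fun h => ?_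
    have h2 : algebraMap C C₁ (mk c₀) ∈ (Spec.map (CommRingCat.ofHom j) t).asIdeal :=
      (congrArg (fun w => w ∈ (Spec.map (CommRingCat.ofHom j) t).asIdeal) (IsLocalization.mk'_spec' C₁ (mk c₀) e)).mp
        (Ideal.mul_mem_left _ (algebraMap C C₁ e) h)
    exact t.2.ne_top (Ideal.eq_top_of_isUnit_mem _ h2
      (IsLocalization.Away.algebraMap_isUnit (S := C₂) (algebraMap C C₁ (mk c₀))))
  have hpt : ∀ z : PrimeSpectrum C₂, V.ι (i z) = hU.fromSpec ((z.comap (algebraMap C C₂)).comap mk) := fun z => by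
    show (i ≫ V.ι) z = _
    rw [hiV, ← PrimeSpectrum.comap_comp_apply]
    rfl
  refine ⟨V, Spec (CommRingCat.of C₂), i, inferInstance, hV, ⟨inferInstance, fun z => ?_⟩, ?_, ?_, ?_, ?_, fun z hz => ?_⟩
  · -- regular closed immersion
    haveI : IsAffine V.toScheme := hV
    refine ⟨⊤, isAffineOpen_top _, trivial, ?_⟩
    let ε : B ≃+* Γ(V.toScheme, ⊤) := V.topIso.commRingCatIsoToRingEquiv.symm
    refine ⟨(fs.map (algebraMap A B)).map ε, ?_, ?_⟩
    · let e₀ : Localization.Away G ≃+* B :=
        (IsLocalization.algEquiv (Submonoid.powers G) (Localization.Away G) B).toRingEquiv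
      have hmapeq : (fs.map (algebraMap A B)).map ε = (fs.map (algebraMap A (Localization.Away G))).map (e₀.trans ε) := by
        rw [List.map_map, List.map_map]
        refine List.map_congr_left fun a _ => ?_
        exact congrArg ε ((IsLocalization.algEquiv (Submonoid.powers G) (Localization.Away G) B).commutes a).symm
      have hreg := hwr G (dvd_mul_of_dvd_left (dvd_mul_right g₀ _) c₀)
      rw [hmapeq]
      refine ⟨(AddEquiv.isWeaklyRegular_congr (e := (e₀.trans ε).toAddEquiv)
        (List.forall₂_map_right_iff.2 (List.forall₂_same.2 fun r _ x => map_mul (e₀.trans ε) r x))).1 hreg, ?_⟩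
      rw [smul_eq_mul, Ideal.mul_top]
      intro htop
      have h3 : (I.map (algebraMap A (Localization.Away G))).map (e₀.trans ε).toRingHom = ⊤ := by
        rw [Ideal.map_ofList, Ideal.map_ofList]; exact htop.symm
      have h4 : I.map (algebraMap A (Localization.Away G)) = ⊤ := by
        have := congrArg (Ideal.comap (e₀.trans ε).toRingHom) h3
        rwa [Ideal.comap_map_of_bijective (e₀.trans ε).toRingHom (e₀.trans ε).bijective, Ideal.comap_top] at this
      obtain ⟨s, hs, hs'⟩ := (CI2.mem_map_localization (Submonoid.powers G) (c := (1 : A))).1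
        (h4.symm ▸ Submodule.mem_top : algebraMap A (Localization.Away G) 1 ∈ I.map (algebraMap A (Localization.Away G)))
      obtain ⟨k, rfl⟩ := hs
      rw [mul_one] at hs'
      exact hG (Ideal.IsPrime.mem_of_pow_mem inferInstance k (hfsq hs'))
    · rw [Scheme.Hom.ker_apply]
      show RingHom.ker (i.appTop).hom = _
      have happ : i.appTop = V.topIso.hom ≫ CommRingCat.ofHom σ ≫ (Scheme.ΓSpecIso (CommRingCat.of C₂)).inv := by
        show (Spec.map (CommRingCat.ofHom σ) ≫ hV.isoSpec.inv).appTop = _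
        rw [Scheme.Hom.comp_appTop, IsAffineOpen.isoSpec_inv_appTop, Category.assoc,
          Scheme.ΓSpecIso_inv_naturality]
      rw [show (fs.map (algebraMap A B)).map ε = (fs.map (algebraMap A B)).map (ε : B →+* Γ(V.toScheme, ⊤)) from rfl,
        ← Ideal.map_ofList, ← Ideal.map_ofList, ← hσk]
      ext b
      rw [RingHom.mem_ker, happ]
      show (Scheme.ΓSpecIso (CommRingCat.of C₂)).inv (σ (V.topIso.hom b)) = 0 ↔
        b ∈ (RingHom.ker σ).map (ε : B →+* Γ(V.toScheme, ⊤))
      rw [map_eq_zero_iff _ (ConcreteCategory.bijective_of_isIso (Scheme.ΓSpecIso (CommRingCat.of C₂)).inv).1]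
      show _ ↔ b ∈ Ideal.map ε _
      rw [← Ideal.comap_symm]
      rfl
  · obtain ⟨z, hz⟩ : zC ∈ Set.range (PrimeSpectrum.comap (algebraMap C C₂)) := by
      rw [PrimeSpectrum.localization_away_comap_range C₂ (mk G)]
      exact fun h => hG ((hmem _).1 h)
    refine ⟨z, ?_⟩
    rw [show (i ≫ V.ι) z = V.ι (i z) from rfl, hpt, hz, ← hqx]
    exact congrArg hU.fromSpec (PrimeSpectrum.ext hqC)
  · rw [hiVf]; infer_instance
  · rw [hiVf]; infer_instance
  · rw [hiVf]; infer_instance
  · replace hz : f (hU.fromSpec ((z.comap (algebraMap C C₂)).comap mk)) = f x := (congrArg f (hpt z)).symm.trans hz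
    refine (hpt z).trans ?_
    have hy : z.comap (algebraMap C C₂) = zC := by
      refine hiso _ ?_ fun hm => ?_
      · refine hW.fromSpec.isOpenEmbedding.injective ?_
        rw [IsScalarTower.algebraMap_eq R A C, PrimeSpectrum.comap_comp_apply, PrimeSpectrum.comap_comp_apply,
          hspec, hspec, show PrimeSpectrum.comap (algebraMap A C) zC = ⟨q, inferInstance⟩ from PrimeSpectrum.ext hqC,
          hqx]
        exact hz
      · have : mk G ∈ (PrimeSpectrum.comap (algebraMap C C₂) z).asIdeal :=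
          Ideal.mem_of_dvd _ (map_dvd mk (((dvd_mul_left s₀ h₁).trans (dvd_mul_left _ g₀)).trans
            (dvd_mul_right g₁ c₀))) hm
        exact z.2.ne_top (Ideal.eq_top_of_isUnit_mem _ this (IsLocalization.Away.algebraMap_isUnit (mk G)))
    rw [hy, ← hqx]
    exact congrArg hU.fromSpec (PrimeSpectrum.ext hqC)

end Groth.Agent.CMSlice4
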