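import Groth.Agent.Lib.KoszulFibre4.Spread
import Groth.Agent.Lib.CanElt.AcyclicityApply
import Groth.Agent.Lib.FtPts3.Fibre
import Mathlib

/-!
# Slicing at a Cohen–Macaulay point of the fibre
-/

set_option autoImplicit false
set_option linter.style.haveILetI false
universe u

open RingTheory.Sequence IsLocalRing

namespace Groth.Agent.CMSlice4

/-- A Cohen–Macaulay local ring has a regular sequence with zero-dimensional quotient. -/
theorem exists_regular_sop (L : Type u) [CommRing L] [LocCoh.IsCohenMacaulayLocalRing L] :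
    ∃ rs : List L, (∀ r ∈ rs, r ∈ maximalIdeal L) ∧ IsWeaklyRegular L rs ∧
      ∀ P : Ideal L, P.IsPrime → Ideal.ofList rs ≤ P → P = maximalIdeal L := by
  obtain ⟨d, hd⟩ := DepthLib.exists_supportDim_eq_natCast (R := L) (M := L)
  have hdep : (d : ℕ∞) = LocCoh.depth L L := by
    have h := (LocCoh.IsCohenMacaulayLocalRing.supportDim_eq_depth (R := L))
    rw [hd] at h
    exact WithBot.coe_inj.1 h
  obtain ⟨rs, hm, hlen, hreg⟩ := CanElt.exists_regular_seq (A := L) d hdep.le
  refine ⟨rs, hm, hreg, fun P hP hle => ?_⟩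
  have hI : Ideal.ofList rs ≤ maximalIdeal L := Ideal.span_le.2 hm
  have hR : IsRegular L rs := ⟨hreg, by
    rw [smul_eq_mul, Ideal.mul_top]
    exact fun h => (maximalIdeal.isMaximal L).ne_top (top_le_iff.1 (h.le.trans hI))⟩
  have h := ringKrullDim_add_length_eq_ringKrullDim_of_isRegular rs hR
  rw [← Module.supportDim_self_eq_ringKrullDim (R := L), hd, hlen] at h
  have h0 : ringKrullDim (L ⧸ Ideal.ofList rs) ≤ 0 := by
    haveI : Nontrivial (L ⧸ Ideal.ofList rs) :=
      Ideal.Quotient.nontrivial_iff.2 fun h => (maximalIdeal.isMaximal L).ne_top (top_le_iff.1 (h ▸ hI))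
    haveI : IsLocalRing (L ⧸ Ideal.ofList rs) :=
      IsLocalRing.of_surjective' (Ideal.Quotient.mk _) Ideal.Quotient.mk_surjective
    obtain ⟨a, ha⟩ := DepthLib.exists_supportDim_eq_natCast (R := L ⧸ Ideal.ofList rs) (M := L ⧸ Ideal.ofList rs)
    rw [Module.supportDim_self_eq_ringKrullDim] at ha
    rw [ha] at h ⊢
    have : a + d = d := by exact_mod_cast h
    obtain rfl : a = 0 := by omega
    simp
  haveI : Ring.KrullDimLE 0 (L ⧸ Ideal.ofList rs) := Ring.krullDimLE_iff.2 h0
  haveI : (P.map (Ideal.Quotient.mk (Ideal.ofList rs))).IsPrime :=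
    Ideal.map_isPrime_of_surjective Ideal.Quotient.mk_surjective (by rwa [Ideal.mk_ker])
  have hmax : (P.map (Ideal.Quotient.mk (Ideal.ofList rs))).IsMaximal :=
    (inferInstance : (P.map (Ideal.Quotient.mk (Ideal.ofList rs))).IsPrime).isMaximal'
  have := Ideal.comap_isMaximal_of_surjective (Ideal.Quotient.mk (Ideal.ofList rs)) Ideal.Quotient.mk_surjective
    (K := P.map (Ideal.Quotient.mk (Ideal.ofList rs)))
  rw [Ideal.comap_map_of_surjective _ Ideal.Quotient.mk_surjective, ← RingHom.ker_eq_comap_bot, Ideal.mk_ker,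
    sup_eq_left.mpr hle] at this
  exact IsLocalRing.eq_maximalIdeal this

variable {R A : Type u} [CommRing R] [CommRing A] [Algebra R A] [Algebra.FinitePresentation R A]
  [Module.Flat R A] (q : Ideal A) [q.IsPrime]

/-- Equations cutting the fibre at `q` down to the point. -/
theorem exists_slice_data (St : Type u) [CommRing St] [Algebra A St] [IsLocalization.AtPrime St q]
    (h : LocCoh.IsCohenMacaulayLocalRing
      (St ⧸ ((q.comap (algebraMap R A)).map (algebraMap R A)).map (algebraMap A St))) :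
    ∃ fs : List A, Ideal.ofList fs ≤ q ∧
      (∃ g ∉ q, ∀ g' : A, g ∣ g' →
        IsWeaklyRegular (Localization.Away g') (fs.map (algebraMap A (Localization.Away g')))) ∧
      (∀ (J : Ideal R) (x : TensorProduct R (A ⧸ Ideal.ofList fs) J),
        J.subtype.lTensor _ x = 0 → ∃ s ∉ q, s • x = 0) ∧
      ∀ P : Ideal A, P.IsPrime → Ideal.ofList fs ≤ P → P ≤ q →
        (q.comap (algebraMap R A)).map (algebraMap R A) ≤ P → P = q := by
  classical
  let pA := (q.comap (algebraMap R A)).map (algebraMap R A)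
  let N := pA.map (algebraMap A St)
  let L := St ⧸ N
  let τ : A →+* L := (Ideal.Quotient.mk N).comp (algebraMap A St)
  haveI := h
  haveI : IsLocalRing St := IsLocalization.AtPrime.isLocalRing St q
  have hpq : pA ≤ q := Ideal.map_comap_le
  have hmax : ∀ a, τ a ∈ maximalIdeal L ↔ a ∈ q := by
    intro a
    have hs : (maximalIdeal L).comap (Ideal.Quotient.mk N) = maximalIdeal St := by
      haveI := Ideal.comap_isMaximal_of_surjective (Ideal.Quotient.mk N) Ideal.Quotient.mk_surjective (K := maximalIdeal L)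
      exact IsLocalRing.eq_maximalIdeal inferInstance
    rw [RingHom.comp_apply, ← Ideal.mem_comap, hs]
    exact IsLocalization.AtPrime.to_map_mem_maximal_iff St q a
  obtain ⟨rs, hrm, hreg, htop⟩ := exists_regular_sop L
  have hlift : ∀ i : Fin rs.length, ∃ a : A, ∃ w : Lˣ, τ a = w * rs.get i := by
    intro i
    obtain ⟨z, hz⟩ := Ideal.Quotient.mk_surjective (rs.get i)
    obtain ⟨⟨a, s⟩, hs⟩ := IsLocalization.surj q.primeCompl z
    refine ⟨a, ((IsLocalization.map_units St s).map (Ideal.Quotient.mk N)).unit, ?_⟩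
    rw [IsUnit.unit_spec, RingHom.comp_apply, ← hs, map_mul, hz, mul_comm]
  choose a w hw using hlift
  let fs : List A := List.ofFn a
  have htake : ∀ j, Ideal.ofList ((fs.take j).map τ) = Ideal.ofList (rs.take j) := by
    intro j
    refine le_antisymm (Ideal.span_le.2 fun x hx => ?_) (Ideal.span_le.2 fun x hx => ?_)
    · obtain ⟨b, hb, rfl⟩ := List.mem_map.1 hx
      obtain ⟨i, hij, rfl⟩ := List.mem_take_iff_getElem.1 hb
      have hij' := hij
      simp only [fs, List.length_ofFn, lt_min_iff] at hij'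
      simp only [fs, List.getElem_ofFn]
      rw [hw ⟨i, hij'.2⟩]
      exact Ideal.mul_mem_left _ _ (Ideal.subset_span (List.mem_take_iff_getElem.2
        ⟨i, lt_min hij'.1 hij'.2, rfl⟩))
    · obtain ⟨i, hij, rfl⟩ := List.mem_take_iff_getElem.1 hx
      have hij' := lt_min_iff.1 hij
      have h1 : τ (a ⟨i, hij'.2⟩) ∈ Ideal.ofList ((fs.take j).map τ) :=
        Ideal.subset_span (List.mem_map.2 ⟨_, List.mem_take_iff_getElem.2
          ⟨i, by simp [fs, lt_min_iff, hij'.1, hij'.2], by simp [fs]⟩, rfl⟩)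
      have h2 := Ideal.mul_mem_left _ ((w ⟨i, hij'.2⟩)⁻¹ : Lˣ).1 h1
      rwa [hw, Units.inv_mul_cancel_left] at h2
  have hfsq : Ideal.ofList fs ≤ q := Ideal.span_le.2 fun x hx => by
    obtain ⟨i, rfl⟩ := List.mem_ofFn.1 hx
    refine (hmax _).1 ?_
    rw [hw]
    exact Ideal.mul_mem_left _ _ (hrm _ (rs.get_mem i))
  have hclear : ∀ (x : A) (K : Ideal A), τ x ∈ K.map τ ↔ ∃ s ∉ q, s * x ∈ pA ⊔ K := by
    intro x K
    show Ideal.Quotient.mk N (algebraMap A St x) ∈ _ ↔ _
    rw [show K.map τ = (K.map (algebraMap A St)).map (Ideal.Quotient.mk N) from (Ideal.map_map _ _).symm,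
      Ideal.mem_quotient_iff_mem_sup, show N = pA.map (algebraMap A St) from rfl, ← Ideal.map_sup,
      CI2.mem_map_localization q.primeCompl, sup_comm]
    rfl
  have hfib : KoszulFibre4.FibReg q R fs := by
    intro j hj b t ht hmem
    have hj' : j < rs.length := by simpa [fs] using hj
    have h1 := (EmbDef.isWeaklyRegular_self_iff _).mp hreg j hj' (τ (t * b) * w ⟨j, hj'⟩) (by
      rw [← htake, ← Ideal.map_ofList, mul_assoc, show ↑(w ⟨j, hj'⟩) * rs[j] = τ fs[j] by
        simp only [fs, List.getElem_ofFn]; exact (hw ⟨j, hj'⟩).symm, ← map_mul]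
      exact (hclear _ _).2 ⟨1, (Ideal.ne_top_iff_one q).mp (Ideal.IsPrime.ne_top inferInstance), by
        rw [one_mul]; convert hmem using 1; ring⟩)
    rw [← htake, ← Ideal.map_ofList, mul_comm, Ideal.unit_mul_mem_iff_mem _ (w ⟨j, hj'⟩).isUnit, hclear] at h1
    obtain ⟨s, hs, hsx⟩ := h1
    exact ⟨s * t, fun h => (Ideal.IsPrime.mem_or_mem inferInstance h).elim hs ht, by rwa [mul_assoc]⟩
  refine ⟨fs, hfsq, KoszulFibre4.exists_isWeaklyRegular_away q fs hfsq hfib,
    fun J x hx => ?_, fun P hP hfP hPq hpP => ?_⟩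
  · have hlen : fs.take fs.length = fs := List.take_length
    have := (KoszulFibre4.spread_step q fs hfsq hfib fs.length le_rfl).2
    rw [hlen] at this
    exact this J x hx
  · refine le_antisymm hPq fun y hy => ?_
    have hdis : Disjoint (q.primeCompl : Set A) (P : Set A) := Set.disjoint_left.2 fun s hs hsP => hs (hPq hsP)
    let PS : Ideal St := P.map (algebraMap A St)
    haveI : PS.IsPrime := IsLocalization.isPrime_of_isPrime_disjoint q.primeCompl St P hP hdis
    have hNP : N ≤ PS := Ideal.map_mono hpP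
    haveI : (PS.map (Ideal.Quotient.mk N)).IsPrime :=
      Ideal.map_isPrime_of_surjective Ideal.Quotient.mk_surjective (by rwa [Ideal.mk_ker])
    have htop' := htop (PS.map (Ideal.Quotient.mk N)) inferInstance (by
      have h1 := htake rs.length
      rw [List.take_length, show fs.take rs.length = fs from List.take_of_length_le (by simp [fs]),
        ← Ideal.map_ofList] at h1
      rw [← h1, show (Ideal.ofList fs).map τ = ((Ideal.ofList fs).map (algebraMap A St)).map (Ideal.Quotient.mk N)
        from (Ideal.map_map _ _).symm]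
      exact Ideal.map_mono (Ideal.map_mono hfP))
    have h2 : τ y ∈ PS.map (Ideal.Quotient.mk N) := by rw [htop']; exact (hmax y).2 hy
    rw [RingHom.comp_apply, Ideal.mem_quotient_iff_mem_sup, sup_eq_left.mpr hNP] at h2
    obtain ⟨s, hs, hsy⟩ := (CI2.mem_map_localization q.primeCompl).1 h2
    exact (hP.mem_or_mem hsy).resolve_left fun h' => hs (hPq h')

/-- An isolated point of a fibre is separated by a basic open. -/
theorem exists_isolating {R C : Type u} [CommRing R] [CommRing C] [Algebra R C] [Algebra.FiniteType R C]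
    (z : PrimeSpectrum C)
    (hmin : ∀ y : PrimeSpectrum C, PrimeSpectrum.comap (algebraMap R C) y = PrimeSpectrum.comap (algebraMap R C) z →
      y.asIdeal ≤ z.asIdeal → y = z)
    (hmax : ∀ y : PrimeSpectrum C, PrimeSpectrum.comap (algebraMap R C) y = PrimeSpectrum.comap (algebraMap R C) z →
      z.asIdeal ≤ y.asIdeal → y = z) :
    ∃ s ∉ z.asIdeal, ∀ y : PrimeSpectrum C,
      PrimeSpectrum.comap (algebraMap R C) y = PrimeSpectrum.comap (algebraMap R C) z → s ∉ y.asIdeal → y = z := by
  let p := PrimeSpectrum.comap (algebraMap R C) z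
  let e := PrimeSpectrum.preimageHomeomorphFiber R C p
  haveI : IsNoetherianRing (p.asIdeal.Fiber C) := Algebra.FiniteType.isNoetherianRing p.asIdeal.ResidueField _
  have hspec : ∀ a b : PrimeSpectrum.comap (algebraMap R C) ⁻¹' {p}, e a ⤳ e b ↔ a.1.asIdeal ≤ b.1.asIdeal := fun a b =>
    (e.isEmbedding.isInducing.specializes_iff).trans
      ((subtype_specializes_iff a b).trans (PrimeSpectrum.le_iff_specializes a.1 b.1).symm)
  have hopen := FtPts3.isOpen_singleton_prime (e ⟨z, rfl⟩)
    (fun w hw => by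
      obtain ⟨w, rfl⟩ := e.surjective w
      exact congrArg e (Subtype.ext (hmin w.1 w.2 ((hspec _ _).1 hw))))
    (fun w hw => by
      obtain ⟨w, rfl⟩ := e.surjective w
      exact congrArg e (Subtype.ext (hmax w.1 w.2 ((hspec _ _).1 hw))))
  have hopen' : IsOpen ({⟨z, rfl⟩} : Set (PrimeSpectrum.comap (algebraMap R C) ⁻¹' {p})) := by
    rw [← e.isOpen_image, Set.image_singleton]
    exact hopen
  obtain ⟨U, hU, hUe⟩ := isOpen_induced_iff.1 hopen'
  have hzU : z ∈ U := by
    have : (⟨z, rfl⟩ : PrimeSpectrum.comap (algebraMap R C) ⁻¹' {p}) ∈ Subtype.val ⁻¹' U := by rw [hUe]; rfl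
    exact this
  obtain ⟨_, ⟨s, rfl⟩, hzs, hsU⟩ := PrimeSpectrum.isTopologicalBasis_basic_opens.exists_subset_of_mem_open hzU hU
  refine ⟨s, hzs, fun y hy hys => ?_⟩
  have : (⟨y, hy⟩ : PrimeSpectrum.comap (algebraMap R C) ⁻¹' {p}) ∈ Subtype.val ⁻¹' U := hsU hys
  rw [hUe] at this
  exact congrArg Subtype.val this

end Groth.Agent.CMSlice4
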